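import Mathlib
import Cfsg.Prelude.Def_Blocks
import Cfsg.Prelude.Def_Classical
import Cfsg.Agent.Lib.Helper79.ModP.Defs

/-!
# S4504 module [B-B3ADD] (helper73, for helper79): `b3` is additive on disjoint stable subspaces
-/

set_option autoImplicit false

open Cfsg Cfsg.Agent.Lib.Helper79.ModP

universe u

namespace Cfsg.Agent.Lib.Helper73.S4504

section

variable {F V : Type*} [Field F] [AddCommGroup V] [Module F V]

theorem map_pow_le (D : Module.End F V) (A : Submodule F V) (hA : A.map D ≤ A) (k : ℕ) :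
    A.map (D ^ k) ≤ A := by
  induction k with
  | zero =>
    rw [pow_zero]
    intro x hx
    obtain ⟨a, ha, rfl⟩ := Submodule.mem_map.1 hx
    exact ha
  | succ k ih =>
    intro x hx
    obtain ⟨a, ha, rfl⟩ := Submodule.mem_map.1 hx
    rw [pow_succ, Module.End.mul_apply]
    exact ih (Submodule.mem_map.2 ⟨D a, hA (Submodule.mem_map.2 ⟨a, ha, rfl⟩), rfl⟩)

theorem map_pow_succ_le (D : Module.End F V) (A : Submodule F V) (hA : A.map D ≤ A) (k : ℕ) :
    A.map (D ^ (k + 1)) ≤ A.map (D ^ k) := by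
  intro x hx
  obtain ⟨a, ha, rfl⟩ := Submodule.mem_map.1 hx
  rw [pow_succ, Module.End.mul_apply]
  exact Submodule.mem_map.2 ⟨D a, hA (Submodule.mem_map.2 ⟨a, ha, rfl⟩), rfl⟩

theorem ker_inf_map_sup (D : Module.End F V) (A B : Submodule F V) (hA : A.map D ≤ A)
    (hB : B.map D ≤ B) (hdis : Disjoint A B) (k : ℕ) :
    LinearMap.ker D ⊓ (A ⊔ B).map (D ^ k) =
      (LinearMap.ker D ⊓ A.map (D ^ k)) ⊔ (LinearMap.ker D ⊓ B.map (D ^ k)) := by
  rw [Submodule.map_sup]
  apply le_antisymm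
  · rintro x ⟨hx1, hx2⟩
    obtain ⟨a, ha, b, hb, rfl⟩ := Submodule.mem_sup.1 hx2
    have haA : a ∈ A := map_pow_le D A hA k ha
    have hbB : b ∈ B := map_pow_le D B hB k hb
    have hDa : D a ∈ A := hA (Submodule.mem_map.2 ⟨a, haA, rfl⟩)
    have hDb : D b ∈ B := hB (Submodule.mem_map.2 ⟨b, hbB, rfl⟩)
    have hsum : D a + D b = 0 := by
      have := LinearMap.mem_ker.1 hx1
      rwa [map_add] at this
    have hDa' : D a ∈ B := by
      have : D a = - D b := eq_neg_of_add_eq_zero_left hsum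
      rw [this]
      exact B.neg_mem hDb
    have hDa0 : D a = 0 := by
      have := (Submodule.disjoint_def.1 hdis) (D a) hDa hDa'
      exact this
    have hDb0 : D b = 0 := by
      rw [hDa0, zero_add] at hsum
      exact hsum
    exact Submodule.mem_sup.2 ⟨a, ⟨LinearMap.mem_ker.2 hDa0, ha⟩, b, ⟨LinearMap.mem_ker.2 hDb0, hb⟩, rfl⟩
  · exact sup_le (inf_le_inf_left _ le_sup_left) (inf_le_inf_left _ le_sup_right)

variable [FiniteDimensional F V]

theorem finrank_ker_inf_map_sup (D : Module.End F V) (A B : Submodule F V) (hA : A.map D ≤ A)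
    (hB : B.map D ≤ B) (hdis : Disjoint A B) (k : ℕ) :
    Module.finrank F ↥(LinearMap.ker D ⊓ (A ⊔ B).map (D ^ k)) =
      Module.finrank F ↥(LinearMap.ker D ⊓ A.map (D ^ k)) +
        Module.finrank F ↥(LinearMap.ker D ⊓ B.map (D ^ k)) := by
  rw [ker_inf_map_sup D A B hA hB hdis k]
  have hd : (LinearMap.ker D ⊓ A.map (D ^ k)) ⊓ (LinearMap.ker D ⊓ B.map (D ^ k)) = ⊥ := by
    rw [eq_bot_iff]
    rintro x ⟨⟨-, hxa⟩, ⟨-, hxb⟩⟩
    rw [Submodule.mem_bot]
    exact (Submodule.disjoint_def.1 hdis) x (map_pow_le D A hA k hxa) (map_pow_le D B hB k hxb)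
  have h := Submodule.finrank_sup_add_finrank_inf_eq (LinearMap.ker D ⊓ A.map (D ^ k))
    (LinearMap.ker D ⊓ B.map (D ^ k))
  rw [hd, finrank_bot, add_zero] at h
  exact h

theorem b3_sup (D : Module.End F V) (A B : Submodule F V) (hA : A.map D ≤ A) (hB : B.map D ≤ B)
    (hdis : Disjoint A B) : b3 D (A ⊔ B) = b3 D A + b3 D B := by
  unfold b3
  rw [finrank_ker_inf_map_sup D A B hA hB hdis 2, finrank_ker_inf_map_sup D A B hA hB hdis 3]
  have hA' : Module.finrank F ↥(LinearMap.ker D ⊓ A.map (D ^ 3)) ≤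
      Module.finrank F ↥(LinearMap.ker D ⊓ A.map (D ^ 2)) :=
    Submodule.finrank_mono (inf_le_inf_left _ (map_pow_succ_le D A hA 2))
  have hB' : Module.finrank F ↥(LinearMap.ker D ⊓ B.map (D ^ 3)) ≤
      Module.finrank F ↥(LinearMap.ker D ⊓ B.map (D ^ 2)) :=
    Submodule.finrank_mono (inf_le_inf_left _ (map_pow_succ_le D B hB 2))
  omega

end

end Cfsg.Agent.Lib.Helper73.S4504
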