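import Mathlib
import Cfsg.Prelude.Def_Blocks
import Cfsg.Prelude.Def_Classical
import Cfsg.Agent.Lib.Helper79.ModP.Defs
import Cfsg.Agent.Lib.Helper73.S4504.B3Add

/-!
# S4504 module [B-JORDAN] (helper73, for helper79): a nilpotent stable subspace with
one-dimensional kernel is a single Jordan block
-/

set_option autoImplicit false

open Cfsg Cfsg.Agent.Lib.Helper79.ModP

universe u

namespace Cfsg.Agent.Lib.Helper73.S4504

section

variable {F V : Type*} [Field F] [AddCommGroup V] [Module F V]

theorem map_pow_succ_eq (D : Module.End F V) (A : Submodule F V) (k : ℕ) :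
    A.map (D ^ (k + 1)) = (A.map (D ^ k)).map D := by
  rw [pow_succ', Module.End.mul_eq_comp, Submodule.map_comp]

theorem map_pow_antitone (D : Module.End F V) (A : Submodule F V) (hA : A.map D ≤ A)
    {k m : ℕ} (hkm : k ≤ m) : A.map (D ^ m) ≤ A.map (D ^ k) := by
  induction m, hkm using Nat.le_induction with
  | base => exact le_rfl
  | succ m _ ih => exact (map_pow_succ_le D A hA m).trans ih

variable [FiniteDimensional F V]

/-- Rank–nullity for `D` restricted to a subspace `A`. -/
theorem finrank_map_add_finrank_ker_inf (D : Module.End F V) (A : Submodule F V) :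
    Module.finrank F ↥(A.map D) + Module.finrank F ↥(LinearMap.ker D ⊓ A) =
      Module.finrank F ↥A := by
  have h := LinearMap.finrank_range_add_finrank_ker (D.comp A.subtype)
  have h1 : LinearMap.range (D.comp A.subtype) = A.map D := by
    rw [LinearMap.range_comp, Submodule.range_subtype]
  have h2 : (LinearMap.ker (D.comp A.subtype)).map A.subtype = LinearMap.ker D ⊓ A := by
    ext x
    constructor
    · rintro ⟨⟨y, hy⟩, hy1, rfl⟩
      refine ⟨?_, hy⟩
      have := LinearMap.mem_ker.1 hy1
      exact LinearMap.mem_ker.2 this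
    · rintro ⟨hx1, hx2⟩
      refine ⟨⟨x, hx2⟩, ?_, rfl⟩
      exact LinearMap.mem_ker.2 (LinearMap.mem_ker.1 hx1)
  rw [h1, ← Submodule.finrank_map_subtype_eq A (LinearMap.ker (D.comp A.subtype)), h2] at h
  exact h

/-- If `D` is injective on the stable subspace `A` and nilpotent on it, then `A = ⊥`. -/
theorem eq_bot_of_ker_inf_eq_bot (D : Module.End F V) (A : Submodule F V) (hA : A.map D ≤ A)
    (hnil : ∃ k : ℕ, A.map (D ^ k) = ⊥) (hk : LinearMap.ker D ⊓ A = ⊥) : A = ⊥ := by
  have hAD : A.map D = A := by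
    apply Submodule.eq_of_le_of_finrank_eq hA
    have h := finrank_map_add_finrank_ker_inf D A
    rw [hk, finrank_bot, add_zero] at h
    exact h
  have hall : ∀ k : ℕ, A.map (D ^ k) = A := by
    intro k
    induction k with
    | zero =>
      rw [pow_zero]
      exact Submodule.map_id A
    | succ k ih => rw [map_pow_succ_eq, ih, hAD]
  obtain ⟨k, hk0⟩ := hnil
  rw [← hall k, hk0]

theorem single_block (D : Module.End F V) (X : Submodule F V)
    (hDX : X.map D ≤ X) (hnil : ∃ k : ℕ, X.map (D ^ k) = ⊥)
    (hker : Module.finrank F ↥(LinearMap.ker D ⊓ X) = 1) :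
    (∀ k : ℕ, Module.finrank F ↥(X.map (D ^ k)) = Module.finrank F ↥X - k) ∧
      b3 D X = if Module.finrank F ↥X = 3 then 1 else 0 := by
  -- the kernel dimension on each `D^k X`
  have hstab : ∀ k : ℕ, (X.map (D ^ k)).map D ≤ X.map (D ^ k) := by
    intro k
    rw [← map_pow_succ_eq]
    exact map_pow_succ_le D X hDX k
  have hnilk : ∀ k : ℕ, ∃ m : ℕ, (X.map (D ^ k)).map (D ^ m) = ⊥ := by
    intro k
    obtain ⟨K, hK⟩ := hnil
    refine ⟨K, ?_⟩
    rw [← Submodule.map_comp, ← Module.End.mul_eq_comp, ← pow_add, eq_bot_iff, ← hK]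
    exact map_pow_antitone D X hDX (Nat.le_add_right K k)
  have he_le : ∀ k : ℕ, Module.finrank F ↥(LinearMap.ker D ⊓ X.map (D ^ k)) ≤ 1 := by
    intro k
    rw [← hker]
    exact Submodule.finrank_mono (inf_le_inf_left _ (map_pow_le D X hDX k))
  have he : ∀ k : ℕ, Module.finrank F ↥(LinearMap.ker D ⊓ X.map (D ^ k)) =
      if Module.finrank F ↥(X.map (D ^ k)) = 0 then 0 else 1 := by
    intro k
    split_ifs with h0
    · have hb : X.map (D ^ k) = ⊥ := Submodule.finrank_eq_zero.1 h0
      rw [hb, inf_bot_eq, finrank_bot]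
    · have hle := he_le k
      have hne : Module.finrank F ↥(LinearMap.ker D ⊓ X.map (D ^ k)) ≠ 0 := by
        intro h
        apply h0
        have hb : LinearMap.ker D ⊓ X.map (D ^ k) = ⊥ := Submodule.finrank_eq_zero.1 h
        have := eq_bot_of_ker_inf_eq_bot D (X.map (D ^ k)) (hstab k) (hnilk k) hb
        rw [this, finrank_bot]
      omega
  have hrec : ∀ k : ℕ, Module.finrank F ↥(X.map (D ^ (k + 1))) =
      Module.finrank F ↥(X.map (D ^ k)) - 1 := by
    intro k
    have h := finrank_map_add_finrank_ker_inf D (X.map (D ^ k))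
    rw [← map_pow_succ_eq, he k] at h
    split_ifs at h with h0 <;> omega
  have hdim : ∀ k : ℕ, Module.finrank F ↥(X.map (D ^ k)) = Module.finrank F ↥X - k := by
    intro k
    induction k with
    | zero =>
      rw [pow_zero, Nat.sub_zero]
      have : X.map (1 : Module.End F V) = X := Submodule.map_id X
      rw [this]
    | succ k ih =>
      rw [hrec k, ih]
      omega
  refine ⟨hdim, ?_⟩
  unfold b3
  rw [he 2, he 3, hdim 2, hdim 3]
  split_ifs <;> omega

end

end Cfsg.Agent.Lib.Helper73.S4504
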