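import Mathlib
import Cfsg.Prelude.Def_Blocks
import Cfsg.Prelude.Def_Classical
import Cfsg.Agent.Lib.Helper79.ModP.Defs
import Cfsg.Agent.Lib.Helper73.S4504.Jordan

/-!
# S4504 module [B-FORM] (helper73, for helper79): an invariant nondegenerate symmetric form is
nondegenerate on a stable Jordan block of size `3` whose stable complement has no block of size `3`
-/

set_option autoImplicit false

open Cfsg Cfsg.Agent.Lib.Helper79.ModP

universe u

namespace Cfsg.Agent.Lib.Helper73.S4504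

theorem ring_ids_inv {R : Type*} [Ring R] (g g' : R) (h1 : g * g' = 1) (h2 : g' * g = 1) :
    (g' - 1) ^ 2 = g' ^ 2 * (g - 1) ^ 2 ∧ (g' - 1) ^ 3 * g = -(g' ^ 2 * (g - 1) ^ 3) ∧
      (g' - 1) ^ 3 = (g - 1) ^ 3 * (-(g' ^ 3)) := by
  have hc : Commute g' g := by
    show g' * g = g * g'
    rw [h1, h2]
  have hcD : Commute g' (g - 1) := hc.sub_right (Commute.one_right g')
  have hgD : Commute g (g - 1) := (Commute.refl g).sub_right (Commute.one_right g)
  have hD' : g' - 1 = -(g' * (g - 1)) := by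
    rw [mul_sub, h2, mul_one]
    abel
  refine ⟨?_, ?_, ?_⟩
  · rw [hD', neg_sq, hcD.mul_pow]
  · rw [hD', Odd.neg_pow (by decide), hcD.mul_pow, neg_mul, mul_assoc, ← (hgD.pow_right 3).eq,
      ← mul_assoc, pow_succ g' 2, mul_assoc (g' ^ 2) g' g, h2, mul_one]
  · rw [hD', Odd.neg_pow (by decide), hcD.mul_pow, mul_neg, ((hcD.pow_right 3).pow_left 3).eq]

section

variable {F V : Type*} [Field F] [AddCommGroup V] [Module F V] [FiniteDimensional F V]

theorem form_nondeg (κ : LinearMap.BilinForm F V) (hκs : κ.IsSymm) (hκn : κ.Nondegenerate)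
    (g g' : Module.End F V) (hgg' : g * g' = 1) (hg'g : g' * g = 1)
    (hinv : ∀ a b : V, κ (g a) (g b) = κ a b)
    (T T' : Submodule F V) (hT : T.map g ≤ T) (hT' : T'.map g ≤ T') (hc : IsCompl T T')
    (hdim : Module.finrank F ↥T = 3)
    (hker : Module.finrank F ↥(LinearMap.ker (g - 1) ⊓ T) = 1)
    (hnilT : ∃ k : ℕ, T.map ((g - 1) ^ k) = ⊥)
    (hb3 : b3 (g - 1) T' = 0) :
    ∀ a ∈ T, (∀ b ∈ T, κ a b = 0) → a = 0 := by
  intro a haT hrad
  by_contra ha0
  obtain ⟨hid2, hid3g, hid3⟩ := ring_ids_inv g g' hgg' hg'g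
  have hsymm : ∀ x y : V, κ x y = κ y x := fun x y => hκs.eq x y
  have hgg'v : ∀ y : V, g (g' y) = y := by
    intro y
    have := congrArg (fun f : Module.End F V => f y) hgg'
    simpa using this
  have hg'gv : ∀ y : V, g' (g y) = y := by
    intro y
    have := congrArg (fun f : Module.End F V => f y) hg'g
    simpa using this
  -- adjoint
  have hadj : ∀ x y : V, κ ((g - 1) x) y = κ x ((g' - 1) y) := by
    intro x y
    have h1 : κ (g x) y = κ x (g' y) := by
      rw [← hinv x (g' y), hgg'v]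
    rw [LinearMap.sub_apply, LinearMap.sub_apply, Module.End.one_apply, Module.End.one_apply,
      map_sub, map_sub, LinearMap.sub_apply, h1]
  have hadjk : ∀ (k : ℕ) (x y : V), κ (((g - 1) ^ k) x) y = κ x (((g' - 1) ^ k) y) := by
    intro k
    induction k with
    | zero =>
      intro x y
      rw [pow_zero, pow_zero, Module.End.one_apply, Module.End.one_apply]
    | succ k ih =>
      intro x y
      rw [pow_succ, Module.End.mul_apply, ih, hadj, pow_succ', Module.End.mul_apply]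
  -- stability under `D = g - 1`
  have hTD : T.map (g - 1) ≤ T := by
    intro x hx
    obtain ⟨b, hb, rfl⟩ := Submodule.mem_map.1 hx
    rw [LinearMap.sub_apply, Module.End.one_apply]
    exact T.sub_mem (hT (Submodule.mem_map.2 ⟨b, hb, rfl⟩)) hb
  have hT'D : T'.map (g - 1) ≤ T' := by
    intro x hx
    obtain ⟨b, hb, rfl⟩ := Submodule.mem_map.1 hx
    rw [LinearMap.sub_apply, Module.End.one_apply]
    exact T'.sub_mem (hT' (Submodule.mem_map.2 ⟨b, hb, rfl⟩)) hb
  -- `g` is onto `T`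
  have hginj : Function.Injective g := by
    intro x y hxy
    rw [← hg'gv x, ← hg'gv y, hxy]
  have hTg : T.map g = T := by
    apply Submodule.eq_of_le_of_finrank_eq hT
    have h := finrank_map_add_finrank_ker_inf g T
    rw [LinearMap.ker_eq_bot.2 hginj, bot_inf_eq, finrank_bot, add_zero] at h
    exact h
  -- the Jordan block `T`
  obtain ⟨hblock, -⟩ := single_block (g - 1) T hTD hnilT hker
  have hD3T : T.map ((g - 1) ^ 3) = ⊥ := by
    apply Submodule.finrank_eq_zero.1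
    rw [hblock 3, hdim]
  have hD2T : T.map ((g - 1) ^ 2) = LinearMap.ker (g - 1) ⊓ T := by
    apply Submodule.eq_of_le_of_finrank_eq
    · intro x hx
      refine Submodule.mem_inf.2 ⟨?_, map_pow_le (g - 1) T hTD 2 hx⟩
      obtain ⟨b, hb, rfl⟩ := Submodule.mem_map.1 hx
      rw [LinearMap.mem_ker, ← Module.End.mul_apply, ← pow_succ']
      have : ((g - 1) ^ (2 + 1) : Module.End F V) b ∈ T.map ((g - 1) ^ 3) := Submodule.mem_map.2 ⟨b, hb, rfl⟩
      rw [hD3T, Submodule.mem_bot] at this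
      exact this
    · rw [hblock 2, hdim, hker]
  -- the radical
  let R : Submodule F V := T ⊓ κ.orthogonal T
  have hRmem : ∀ x : V, x ∈ R ↔ x ∈ T ∧ ∀ b ∈ T, κ x b = 0 := by
    intro x
    constructor
    · rintro ⟨h1, h2⟩
      refine ⟨h1, fun b hb => ?_⟩
      rw [hsymm]
      exact h2 b hb
    · rintro ⟨h1, h2⟩
      refine ⟨h1, fun b hb => ?_⟩
      rw [hsymm]
      exact h2 b hb
  have haR : a ∈ R := (hRmem a).2 ⟨haT, hrad⟩
  have hRg : ∀ x ∈ R, g x ∈ R := by
    intro x hx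
    obtain ⟨hx1, hx2⟩ := (hRmem x).1 hx
    refine (hRmem _).2 ⟨hT (Submodule.mem_map.2 ⟨x, hx1, rfl⟩), fun b hb => ?_⟩
    rw [← hTg] at hb
    obtain ⟨c, hc1, rfl⟩ := Submodule.mem_map.1 hb
    rw [hinv]
    exact hx2 c hc1
  have hRD : R.map (g - 1) ≤ R := by
    intro x hx
    obtain ⟨b, hb, rfl⟩ := Submodule.mem_map.1 hx
    rw [LinearMap.sub_apply, Module.End.one_apply]
    exact R.sub_mem (hRg b hb) hb
  have hRnil : ∃ k : ℕ, R.map ((g - 1) ^ k) = ⊥ := by
    refine ⟨3, ?_⟩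
    rw [eq_bot_iff, ← hD3T]
    exact Submodule.map_mono inf_le_left
  have hRne : R ≠ ⊥ := by
    intro h
    rw [h, Submodule.mem_bot] at haR
    exact ha0 haR
  have hkerR : LinearMap.ker (g - 1) ⊓ R ≠ ⊥ := fun h =>
    hRne (eq_bot_of_ker_inf_eq_bot (g - 1) R hRD hRnil h)
  obtain ⟨s, hs, hs0⟩ := Submodule.exists_mem_ne_zero_of_ne_bot hkerR
  obtain ⟨hsker, hsR⟩ := Submodule.mem_inf.1 hs
  obtain ⟨hsT, hsrad⟩ := (hRmem s).1 hsR
  -- `s = D² t`
  have hs2 : s ∈ T.map ((g - 1) ^ 2) := by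
    rw [hD2T]
    exact Submodule.mem_inf.2 ⟨hsker, hsT⟩
  obtain ⟨t, ht, hts⟩ := Submodule.mem_map.1 hs2
  have hD3t : ((g - 1) ^ 3 : Module.End F V) t = 0 := by
    have : ((g - 1) ^ 3 : Module.End F V) t ∈ T.map ((g - 1) ^ 3) := Submodule.mem_map.2 ⟨t, ht, rfl⟩
    rw [hD3T, Submodule.mem_bot] at this
    exact this
  -- `ker D ∩ D² T' = ker D ∩ D³ T'`
  have hT'23 : LinearMap.ker (g - 1) ⊓ T'.map ((g - 1) ^ 3) =
      LinearMap.ker (g - 1) ⊓ T'.map ((g - 1) ^ 2) := by
    have hle : LinearMap.ker (g - 1) ⊓ T'.map ((g - 1) ^ 3) ≤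
        LinearMap.ker (g - 1) ⊓ T'.map ((g - 1) ^ 2) :=
      inf_le_inf_left _ (map_pow_succ_le (g - 1) T' hT'D 2)
    apply Submodule.eq_of_le_of_finrank_le hle
    unfold b3 at hb3
    omega
  -- `s ⊥ ker D³ ∩ T'`
  have hsT' : ∀ a' ∈ T', ((g - 1) ^ 3 : Module.End F V) a' = 0 → κ s a' = 0 := by
    intro a' ha' h3
    have h2 : ((g - 1) ^ 2 : Module.End F V) a' ∈ LinearMap.ker (g - 1) ⊓ T'.map ((g - 1) ^ 2) := by
      refine Submodule.mem_inf.2 ⟨?_, Submodule.mem_map.2 ⟨a', ha', rfl⟩⟩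
      rw [LinearMap.mem_ker, ← Module.End.mul_apply, ← pow_succ']
      exact h3
    rw [← hT'23] at h2
    obtain ⟨c', hc', hc'e⟩ := Submodule.mem_map.1 (Submodule.mem_inf.1 h2).2
    rw [← hts, hadjk 2, hid2, Module.End.mul_apply, ← hc'e]
    have h4 : (g' ^ 2 : Module.End F V) (((g - 1) ^ 3 : Module.End F V) c') = -(((g' - 1) ^ 3 : Module.End F V) (g c')) := by
      have := congrArg (fun f : Module.End F V => f c') hid3g
      simp only [Module.End.mul_apply, LinearMap.neg_apply] at this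
      rw [this, neg_neg]
    rw [h4, map_neg, ← hadjk 3, hD3t, map_zero, LinearMap.zero_apply, neg_zero]
  -- `s ⊥ ker D³`
  have hsorth : s ∈ κ.orthogonal (LinearMap.ker ((g - 1) ^ 3)) := by
    intro x hx
    have hx3 : ((g - 1) ^ 3 : Module.End F V) x = 0 := LinearMap.mem_ker.1 hx
    have hxtop : x ∈ T ⊔ T' := by
      rw [hc.sup_eq_top]
      exact Submodule.mem_top
    obtain ⟨b, hb, a', ha', rfl⟩ := Submodule.mem_sup.1 hxtop
    have hb3' : ((g - 1) ^ 3 : Module.End F V) b = 0 := by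
      have : ((g - 1) ^ 3 : Module.End F V) b ∈ T.map ((g - 1) ^ 3) := Submodule.mem_map.2 ⟨b, hb, rfl⟩
      rw [hD3T, Submodule.mem_bot] at this
      exact this
    have ha3 : ((g - 1) ^ 3 : Module.End F V) a' = 0 := by
      rw [map_add, hb3', zero_add] at hx3
      exact hx3
    show κ (b + a') s = 0
    rw [hsymm, map_add, hsrad b hb, hsT' a' ha' ha3, add_zero]
  -- `(range D'³)^⊥ = ker D³`
  have horth : κ.orthogonal (LinearMap.range ((g' - 1) ^ 3)) = LinearMap.ker ((g - 1) ^ 3) := by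
    ext x
    rw [LinearMap.BilinForm.mem_orthogonal_iff, LinearMap.mem_ker]
    constructor
    · intro h
      apply hκn.1
      intro y
      rw [hadjk 3]
      rw [hsymm]
      exact h _ (LinearMap.mem_range.2 ⟨y, rfl⟩)
    · intro h n hn
      obtain ⟨y, rfl⟩ := LinearMap.mem_range.1 hn
      rw [hsymm, ← hadjk 3, h, map_zero, LinearMap.zero_apply]
  have hsrange : s ∈ LinearMap.range ((g' - 1) ^ 3) := by
    rw [← LinearMap.BilinForm.orthogonal_orthogonal hκn hκs.isRefl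
      (LinearMap.range ((g' - 1) ^ 3)), horth]
    exact hsorth
  obtain ⟨y, hy⟩ := LinearMap.mem_range.1 hsrange
  rw [hid3, Module.End.mul_apply] at hy
  -- `s ∈ D³ T' ≤ T'`
  have hytop : (-(g' ^ 3)) y ∈ T ⊔ T' := by
    rw [hc.sup_eq_top]
    exact Submodule.mem_top
  obtain ⟨b, hb, c', hc', hbc⟩ := Submodule.mem_sup.1 hytop
  have hb3' : ((g - 1) ^ 3 : Module.End F V) b = 0 := by
    have : ((g - 1) ^ 3 : Module.End F V) b ∈ T.map ((g - 1) ^ 3) := Submodule.mem_map.2 ⟨b, hb, rfl⟩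
    rw [hD3T, Submodule.mem_bot] at this
    exact this
  rw [← hbc, map_add, hb3', zero_add] at hy
  have hsT'mem : s ∈ T' := by
    rw [← hy]
    exact map_pow_le (g - 1) T' hT'D 3 (Submodule.mem_map.2 ⟨c', hc', rfl⟩)
  exact hs0 ((Submodule.disjoint_def.1 hc.disjoint) s hsT hsT'mem)

end

end Cfsg.Agent.Lib.Helper73.S4504
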