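import Mathlib
import Cfsg.Prelude.Def_Blocks
import Cfsg.Prelude.Def_Classical
import Cfsg.Agent.Lib.Helper79.ModP.Defs

/-!
# S4504 module [B-TRFORM] (helper73, for helper79): the trace form on `End W` is symmetric and nondegenerate
-/

set_option autoImplicit false

open Cfsg Cfsg.Agent.Lib.Helper79.ModP

universe u

namespace Cfsg.Agent.Lib.Helper73.S4504

/-- the trace form on `End W` -/
noncomputable def trForm (F W : Type*) [Field F] [AddCommGroup W] [Module F W] :
    LinearMap.BilinForm F (Module.End F W) :=
  LinearMap.mk₂ F (fun A B => LinearMap.trace F W (A * B))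
    (fun A A' B => by rw [add_mul, map_add])
    (fun c A B => by rw [smul_mul_assoc, map_smul])
    (fun A B B' => by rw [mul_add, map_add])
    (fun c A B => by rw [mul_smul_comm, map_smul])

theorem trForm_apply {F W : Type*} [Field F] [AddCommGroup W] [Module F W] (A B : Module.End F W) :
    trForm F W A B = LinearMap.trace F W (A * B) := rfl

theorem trForm_sep {F W : Type*} [Field F] [AddCommGroup W] [Module F W] [FiniteDimensional F W]
    (A : Module.End F W) (h : ∀ B : Module.End F W, LinearMap.trace F W (A * B) = 0) : A = 0 := by
  apply LinearMap.ext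
  intro v
  rw [LinearMap.zero_apply, ← Module.forall_dual_apply_eq_zero_iff F]
  intro φ
  have h1 := h (φ.smulRight v)
  have h2 : A * φ.smulRight v = φ.smulRight (A v) := by
    apply LinearMap.ext
    intro w
    rw [Module.End.mul_apply, LinearMap.smulRight_apply, LinearMap.smulRight_apply, map_smul]
  rw [h2, LinearMap.trace_smulRight] at h1
  exact h1

theorem trace_form {F W : Type*} [Field F] [AddCommGroup W] [Module F W] [FiniteDimensional F W] :
    ∃ κ : LinearMap.BilinForm F (Module.End F W), κ.IsSymm ∧ κ.Nondegenerate ∧
      (∀ A B : Module.End F W, κ A B = LinearMap.trace F W (A * B)) := by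
  refine ⟨trForm F W, ?_, ⟨?_, ?_⟩, fun A B => rfl⟩
  · rw [LinearMap.BilinForm.isSymm_def]
    intro A B
    rw [trForm_apply, trForm_apply, LinearMap.trace_mul_comm]
  · intro A hA
    exact trForm_sep A hA
  · intro B hB
    apply trForm_sep B
    intro A
    rw [LinearMap.trace_mul_comm]
    exact hB A

end Cfsg.Agent.Lib.Helper73.S4504
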